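import Groth.Agent.GalEt.BrauerVanish
import Groth.Agent.TsenLib.Norm
import Groth.Prelude.Def_Dix

/-!
# The cohomological Brauer group of a `C₁` field vanishes
-/

universe u

open CategoryTheory AlgebraicGeometry MvPolynomial

namespace Groth.Agent.BrauerXCurve

open Groth.Agent.GalEt

theorem exists_norm_eq {K : Type u} [Field K] (hK : Curves.IsCr K 1) (L : Type u) [Field L] [Algebra K L]
    [FiniteDimensional K L] (x : K) : ∃ y : L, Algebra.norm K y = x := by
  classical
  let d := Module.finrank K L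
  have hd : 0 < d := Module.finrank_pos
  let b := Module.finBasis K L
  let A : L →ₐ[K] Matrix (Fin d) (Fin d) K := Algebra.leftMulMatrix b
  let M : Matrix (Fin d) (Fin d) (MvPolynomial (Fin (d + 1)) K) :=
    fun a c => ∑ j : Fin d, C (A (b j) a c) * X (Fin.castSucc j)
  let f : MvPolynomial (Fin (d + 1)) K := M.det - C x * X (Fin.last d) ^ d
  have hf : f.IsHomogeneous d := by
    refine IsHomogeneous.sub ?_ (isHomogeneous_C_mul_X_pow _ _ _)
    simpa using TsenLib.isHomogeneous_det M (d := 1) fun a c =>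
      IsHomogeneous.sum _ _ _ fun j _ => isHomogeneous_C_mul_X _ _
  obtain ⟨v, hv, hv0⟩ := hK (d + 1) d f hf hd (by simp)
  let y : L := ∑ j : Fin d, v (Fin.castSucc j) • b j
  have hdet : eval v M.det = Algebra.norm K y := by
    rw [Algebra.norm_eq_matrix_det b, RingHom.map_det, RingHom.mapMatrix_apply]
    refine congrArg Matrix.det (Matrix.ext fun a c => ?_)
    change eval v (M a c) = Algebra.leftMulMatrix b y a c
    simp only [M, y, A, map_sum, map_mul, eval_C, eval_X, map_smul, Matrix.sum_apply, Matrix.smul_apply,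
      smul_eq_mul]
    exact Finset.sum_congr rfl fun j _ => mul_comm (Algebra.leftMulMatrix b (b j) a c) (v j.castSucc)
  have heq : Algebra.norm K y = x * v (Fin.last d) ^ d := by
    simpa [f, hdet, sub_eq_zero] using hv0
  rcases eq_or_ne (v (Fin.last d)) 0 with hz | hz
  · exfalso
    rw [hz, zero_pow hd.ne', mul_zero, Algebra.norm_eq_zero_iff] at heq
    refine hv (funext fun j => ?_)
    refine Fin.lastCases hz (fun j => ?_) j
    exact Fintype.linearIndependent_iff.1 b.linearIndependent (fun j => v (Fin.castSucc j)) heq j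
  · refine ⟨y * algebraMap K L (v (Fin.last d))⁻¹, ?_⟩
    rw [map_mul, Algebra.norm_algebraMap, heq, mul_assoc, ← mul_pow, mul_inv_cancel₀ hz, one_pow, mul_one]

theorem normSurj_of_isCi {K : Type u} [Field K] (hK : Curves.IsCi K 1) (p : ℕ) : NormSurj K p :=
  fun K' _ _ _ L _ _ _ _ _ x _ =>
    exists_norm_eq (TsenLib.isCr_one_of_isCi (TsenLib.isCi_of_isAlgebraic (K := K) (L := K') hK)) L x

theorem brauer_eq_zero_of_isCi {K : Type u} [Field K] (hK : Curves.IsCi K 1)
    (y : EtCoh.H (Spec (CommRingCat.of K)) (EtCoh.Gm (Spec (CommRingCat.of K))) 2) : y = 0 := by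
  obtain ⟨N, hN, hy⟩ := isOfFinAddOrder_iff_nsmul_eq_zero.1 (GalEt.isOfFinAddOrder_H (k := K) _ 1 y)
  induction N using Nat.strong_induction_on generalizing y with
  | _ N ih =>
  rcases eq_or_ne N 1 with rfl | h1
  · rwa [one_smul] at hy
  have hp := Nat.minFac_prime h1
  have : Fact N.minFac.Prime := ⟨hp⟩
  obtain ⟨m, hm⟩ := Nat.minFac_dvd N
  have hm0 : 0 < m := Nat.pos_of_ne_zero fun h => by rw [h, mul_zero] at hm; omega
  refine ih m ?_ y hm0 (brauer_torsion_eq_zero N.minFac (normSurj_of_isCi hK _) (m • y) ?_)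
  · calc m = 1 * m := (one_mul m).symm
      _ < N.minFac * m := Nat.mul_lt_mul_of_pos_right hp.one_lt hm0
      _ = N := hm.symm
  · rw [← mul_smul, ← hm]; exact hy

end Groth.Agent.BrauerXCurve
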