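import Groth.Agent.EtSupp70.Devissage
import Groth.Agent.SGA4hSkyscraper.Basic
import Groth.Agent.BrauerXPoint.Torsion

/-!
# Cohomology of sheaves supported at closed points
-/

universe u

open CategoryTheory CategoryTheory.Limits AlgebraicGeometry Opposite TopologicalSpace CategoryTheory.Abelian

namespace Groth.Agent.BrauerXCurve

open Groth.Agent.EtFound Groth.Agent.EtPBC63 Groth.Agent.EtSupp70

set_option backward.isDefEq.respectTransparency.types false

/-- every element is killed by a member of `M` -/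
def KilledBy (M : Submonoid ℕ) (A : Type*) [AddCommGroup A] : Prop := ∀ a : A, ∃ N ∈ M, N • a = 0

theorem killedBy_bot_iff {A : Type*} [AddCommGroup A] : KilledBy ⊥ A ↔ Subsingleton A := by
  refine ⟨fun h => subsingleton_of_forall_eq 0 fun a => ?_, fun h a => ⟨1, one_mem _, Subsingleton.elim _ _⟩⟩
  obtain ⟨N, hN, ha⟩ := h a
  rw [Submonoid.mem_bot.1 hN, one_smul] at ha
  exact ha

theorem killedBy_pos_iff {A : Type*} [AddCommGroup A] : KilledBy (nonZeroDivisors ℕ) A ↔ IsAddTorsion A := by
  refine ⟨fun h a => ?_, fun h a => ?_⟩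
  · obtain ⟨N, hN, ha⟩ := h a
    exact isOfFinAddOrder_iff_nsmul_eq_zero.2 ⟨N, Nat.pos_of_ne_zero (nonZeroDivisors.ne_zero hN), ha⟩
  · obtain ⟨N, hN, ha⟩ := isOfFinAddOrder_iff_nsmul_eq_zero.1 (h a)
    exact ⟨N, mem_nonZeroDivisors_iff_ne_zero.2 hN.ne', ha⟩

variable {X : Scheme.{u}} (M : Submonoid ℕ)

theorem killedBy_of_iso {F G : EtCoh.Ab X} (e : F ≅ G) {q : ℕ} (h : KilledBy M (EtCoh.H X F q)) :
    KilledBy M (EtCoh.H X G q) := fun a => by
  obtain ⟨N, hN, ha⟩ := h ((EtCoh.HF X q).map e.inv a)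
  refine ⟨N, hN, ?_⟩
  let φ := ((EtCoh.HF X q).map e.hom).hom
  have h2 : φ ((EtCoh.HF X q).map e.inv a) = a := by
    change ((EtCoh.HF X q).map e.inv ≫ (EtCoh.HF X q).map e.hom) a = a
    rw [← Functor.map_comp, e.inv_hom_id, CategoryTheory.Functor.map_id]
    rfl
  rw [← h2]
  exact (map_nsmul φ N _).symm.trans ((congrArg φ ha).trans (map_zero φ))

theorem killedBy_of_subsingleton {A : Type*} [AddCommGroup A] [Subsingleton A] : KilledBy M A :=
  fun _ => ⟨1, one_mem _, Subsingleton.elim _ _⟩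

theorem killedBy_middle {S : ShortComplex (EtCoh.Ab X)} (hS : S.ShortExact) (q : ℕ)
    (h1 : KilledBy M (EtCoh.H X S.X₁ q)) (h3 : KilledBy M (EtCoh.H X S.X₃ q)) :
    KilledBy M (EtCoh.H X S.X₂ q) := fun (a : Ext (EtCoh.const X ℤ) S.X₂ q) => by
  obtain ⟨N, hN, ha⟩ := h3 (a.comp (Ext.mk₀ S.g) (add_zero q))
  obtain ⟨b, hb⟩ := Ext.covariant_sequence_exact₂ _ hS (N • a)
    ((map_nsmul (((Ext.mk₀ S.g).postcomp (EtCoh.const X ℤ)) (add_zero q)) N a).trans ha)
  obtain ⟨N', hN', hb'⟩ := h1 b
  refine ⟨N' * N, mul_mem hN' hN, ?_⟩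
  change (N' * N) • a = 0
  rw [mul_smul, ← hb]
  refine (map_nsmul (((Ext.mk₀ S.f).postcomp (EtCoh.const X ℤ)) (add_zero q)) N' b).symm.trans ?_
  rw [show N' • b = 0 from hb', map_zero]

theorem killedBy_colimit [IsNoetherian X] {J : Type (u + 1)} [SmallCategory J] [IsFiltered J]
    {D : J ⥤ EtCoh.Ab X} {c : Cocone D} (hc : IsColimit c) (q : ℕ)
    (h : ∀ j, KilledBy M (EtCoh.H X (D.obj j) q)) : KilledBy M (EtCoh.H X c.pt q) := fun a => by
  have := EtLC12.QcqsAcyclic.preservesColimitsOfShape_HF X q J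
  obtain ⟨j, b, rfl⟩ := Concrete.isColimit_exists_rep _ (isColimitOfPreserves (EtCoh.HF X q) hc) a
  obtain ⟨N, hN, hb⟩ := h j b
  exact ⟨N, hN, (map_nsmul _ N b).symm.trans ((congrArg _ hb).trans (map_zero _))⟩

variable [IsNoetherian X] (q : ℕ)
  (hpt : ∀ (x : X), IsClosed ({x} : Set X) → ∀ (F : EtCoh.Ab X), KilledBy M (EtCoh.H X (ptPP x F) q))

include hpt

theorem killedBy_supp_finset (T : Finset X) (hT : ∀ x ∈ T, IsClosed ({x} : Set X)) :
    ∀ F : EtCoh.Ab X, EtPBC.supp F ⊆ T → KilledBy M (EtCoh.H X F q) := by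
  classical
  induction T using Finset.induction_on with
  | empty =>
    intro F hF
    have := subsingleton_H_of_isZero (F := F) (isZero_iff_stalks _ |>.2 fun Ω _ _ ξ => by
      by_contra h
      exact absurd (hF ((mem_supp_iff ξ).2 h)) (Finset.notMem_empty _)) q
    exact killedBy_of_subsingleton M
  | insert η T hη ih =>
    intro F hF
    let i := X.fromSpecResidueField η
    have hri : Set.range i.base = {η} := Scheme.range_fromSpecResidueField η
    let u : F ⟶ ptPP η F := (EtCoh.pullPushAdj i).unit.app F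
    have hu : ∀ (G : EtCoh.Ab X), (IsZero ((EtCoh.pull i).obj G)) → η ∉ EtPBC.supp G := fun G hG hmem => by
      rw [isZero_pull_iff, hri] at hG
      exact Set.disjoint_left.1 hG rfl hmem
    have := EtFound.pull_preservesFiniteLimits i
    have : IsIso ((EtCoh.pullPushAdj i).counit.app ((EtCoh.pull i).obj F)) :=
      counit_isIso_fromSpecResidueField X η _
    have hiu : IsIso ((EtCoh.pull i).map u) :=
      isIso_of_comp_hom_eq_id _ ((EtCoh.pullPushAdj i).left_triangle_components F)
    have : (EtCoh.pull i).IsLeftAdjoint := (EtCoh.pullPushAdj i).isLeftAdjoint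
    have hK : ∀ x ∈ EtPBC.supp (kernel u), x ∈ T := fun x hx => by
      refine (Finset.mem_insert.1 (hF (supp_subset_of_mono (kernel.ι u) hx))).resolve_left ?_
      rintro rfl
      refine hu _ (IsZero.of_mono_eq_zero ((EtCoh.pull i).map (kernel.ι u)) ?_) hx
      rw [← cancel_mono ((EtCoh.pull i).map u), ← Functor.map_comp, kernel.condition, Functor.map_zero, zero_comp]
    have hC : IsZero (cokernel u) := (isZero_iff_stalks _).2 fun Ω _ _ ξ => by
      by_contra h
      have hx := (mem_supp_iff ξ).2 h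
      have h1 := supp_push_subset i _ (supp_subset_of_epi (cokernel.π u) hx)
      rw [hri, (hT η (Finset.mem_insert_self _ _)).closure_eq] at h1
      refine hu _ (IsZero.of_epi_eq_zero ((EtCoh.pull i).map (cokernel.π u)) ?_)
        ((Set.mem_singleton_iff.1 h1) ▸ hx)
      rw [← cancel_epi ((EtCoh.pull i).map u), ← Functor.map_comp, cokernel.condition, Functor.map_zero, comp_zero]
    have : Epi u := Preadditive.epi_of_isZero_cokernel u hC
    exact killedBy_middle M (S := ShortComplex.mk (kernel.ι u) u (kernel.condition u))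
      { exact := ShortComplex.exact_of_f_is_kernel _ (kernelIsKernel _) } q
      (ih (fun x hx => hT x (Finset.mem_insert_of_mem hx)) _ hK)
      (hpt η (hT η (Finset.mem_insert_self _ _)) F)

theorem killedBy_supp_closedPoints (F : EtCoh.Ab X)
    (hF : ∀ x ∈ EtPBC.supp F, IsClosed ({x} : Set X)) : KilledBy M (EtCoh.H X F q) := by
  let Q : Closeds X → Prop := fun A => (A : Set X).Finite ∧ ∀ x ∈ A, IsClosed ({x} : Set X)
  obtain ⟨J, _, _, D, c, hc, ⟨e⟩, hD⟩ := exists_colimit_sub F Q
    ⟨Set.finite_empty, fun x hx => absurd hx (Set.notMem_empty x)⟩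
    (fun A B hA hB => ⟨hA.1.union hB.1, fun x hx => hx.elim (hA.2 x) (hB.2 x)⟩)
    (fun y hy => ⟨by simp [(hF y hy).closure_eq], fun x hx => by
      have : x ∈ closure ({y} : Set X) := hx
      rw [(hF y hy).closure_eq] at this
      exact (Set.mem_singleton_iff.1 this) ▸ hF y hy⟩)
  refine killedBy_of_iso M e (killedBy_colimit M hc q fun j => ?_)
  obtain ⟨A, hA, ⟨eA⟩⟩ := hD j
  exact killedBy_of_iso M eA.symm (killedBy_supp_finset M q hpt hA.1.toFinset
    (fun x hx => hA.2 x (hA.1.mem_toFinset.1 hx)) _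
    (fun x hx => hA.1.mem_toFinset.2 (supp_sub_subset A F hx)))

omit hpt

/-- sheaves supported at closed points have torsion higher cohomology -/
theorem isAddTorsion_H_supp_closedPoints (F : EtCoh.Ab X) (hF : ∀ x ∈ EtPBC.supp F, IsClosed ({x} : Set X))
    (n : ℕ) : IsAddTorsion (EtCoh.H X F (n + 1)) := by
  refine killedBy_pos_iff.1 (killedBy_supp_closedPoints _ (n + 1) (fun x hx G => killedBy_pos_iff.2 ?_) F hF)
  have : CompactSpace (Spec (X.residueField x)) := inferInstance
  exact BrauerXPoint.isAddTorsion_H_push (k := X.residueField x) (X.fromSpecResidueField x) _ n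

/-- sheaves supported at closed points with separably closed residue fields have no higher cohomology -/
theorem subsingleton_H_supp_closedPoints (hsep : ∀ x : X, IsClosed ({x} : Set X) → IsSepClosed (X.residueField x))
    (F : EtCoh.Ab X) (hF : ∀ x ∈ EtPBC.supp F, IsClosed ({x} : Set X))
    (n : ℕ) : Subsingleton (EtCoh.H X F (n + 1)) := by
  refine killedBy_bot_iff.1 (killedBy_supp_closedPoints _ (n + 1) (fun x hx G => killedBy_bot_iff.2 ?_) F hF)
  have : IsClosedImmersion (X.fromSpecResidueField x) := isClosed_singleton_iff_isClosedImmersion.mp hx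
  have := S0101.result (X.fromSpecResidueField x)
  have hb := S14451.result (X.fromSpecResidueField x) ((EtCoh.pull (X.fromSpecResidueField x)).obj G)
    (fun i hi => S0071.result _ _ i hi) (n + 1)
  have := hsep x hx
  have := SGA4hSkyscraper.subsingleton_H_field (X.residueField x)
    ((EtCoh.pull (X.fromSpecResidueField x)).obj G) (n + 1) n.succ_pos
  exact hb.1.subsingleton

end Groth.Agent.BrauerXCurve
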