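import Groth.Agent.VarDim.Top
import Groth.Agent.TsenLib.Basic

/-!
# The function field of a curve over an algebraically closed field is `C₁`
-/

universe u

open CategoryTheory AlgebraicGeometry
open Groth.Agent.VarDim (deg tdeg resHom baseMap)

namespace Groth.Agent.BrauerXCurve

/-- the function field of an integral curve over an algebraically closed field is `C₁` -/
theorem isCi_functionField {k : Type u} [Field k] [IsAlgClosed k] {X : Scheme.{u}}
    (f : X ⟶ Spec (CommRingCat.of k)) [LocallyOfFiniteType f] [IsIntegral X] (hdim : topologicalKrullDim X = 1) :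
    Curves.IsCi X.functionField 1 := by
  letI : Algebra k X.functionField :=
    ((X.presheaf.germ ⊤ (genericPoint X) trivial).hom.comp (baseMap f)).toAlgebra
  refine TsenLib.tsen_lang (k := k) ?_
  have h := VarDim.topologicalKrullDim_eq_deg_genericPoint f
  rw [hdim] at h
  have h1 : deg f (genericPoint X) = 1 := by exact_mod_cast h.symm
  have h2 := VarDim.deg_eq_tdeg f (genericPoint X)
  rw [h1, Nat.cast_one] at h2
  letI := (resHom f (genericPoint X)).toAlgebra
  have hb : Function.Bijective (X.residue (genericPoint X)).hom :=
    ⟨(X.residue (genericPoint X)).hom.injective, X.residue_surjective (genericPoint X)⟩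
  let e : X.functionField ≃ₐ[k] X.residueField (genericPoint X) :=
    AlgEquiv.ofRingEquiv (f := RingEquiv.ofBijective _ hb) fun _ => rfl
  have h3 : Algebra.trdeg k X.functionField = 1 := e.trdeg_eq.trans h2.symm
  exact_mod_cast h3

end Groth.Agent.BrauerXCurve
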