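import Groth.Agent.BrauerXCurve.MaxPoint
import Groth.Agent.BrauerXCurve.ClosedSupp
import Groth.Agent.GrpSchLib.FieldSmooth
import Mathlib.RingTheory.KrullDimension.Zero
import Mathlib.CategoryTheory.Abelian.Exact

/-!
# `H^q(X, G_m)` of a noetherian scheme of dimension ≤ 1 seen at the maximal points
-/

universe u

open CategoryTheory CategoryTheory.Limits AlgebraicGeometry Opposite TopologicalSpace CategoryTheory.Abelian

namespace Groth.Agent.BrauerXCurve

open Groth.Agent.EtFound Groth.Agent.EtPBC63 Groth.Agent.EtSupp70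

set_option backward.isDefEq.respectTransparency.types false

variable (X : Scheme.{u})

/-- the maximal points -/
def MaxPts : Type u := {x : X // ∀ y : X, y ⤳ x → y = x}

instance [IsNoetherian X] : Finite (MaxPts X) := by
  have h : Finite (irreducibleComponents (X : Type u)) := NoetherianSpace.finite_irreducibleComponents.to_subtype
  refine Finite.of_injective (fun x : MaxPts X => (⟨irreducibleComponent x.1, irreducibleComponent_mem_irreducibleComponents _⟩ :
    irreducibleComponents (X : Type u))) fun a b h => Subtype.ext ?_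
  have h' : irreducibleComponent a.1 = irreducibleComponent b.1 := congrArg Subtype.val h
  obtain ⟨g, hg⟩ : ∃ g, IsGenericPoint g (irreducibleComponent a.1) :=
    QuasiSober.sober isIrreducible_irreducibleComponent isClosed_irreducibleComponent
  have ha : g = a.1 := a.2 g (hg.specializes mem_irreducibleComponent)
  have hb : g = b.1 := b.2 g (hg.specializes (h' ▸ mem_irreducibleComponent))
  exact ha.symm.trans hb

variable {X}

/-- in dimension ≤ 1 a point which is not closed is maximal -/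
theorem maximal_of_not_isClosed (hdim : topologicalKrullDim X ≤ 1) (x : X) (hx : ¬ IsClosed ({x} : Set X))
    (y : X) (hy : y ⤳ x) : y = x := by
  by_contra hne
  obtain ⟨z, hz, hzx⟩ : ∃ z ∈ closure ({x} : Set X), z ≠ x := by
    by_contra h
    push Not at h
    exact hx (closure_subset_iff_isClosed.1 fun z hz => h z hz)
  let C : X → IrreducibleCloseds X := fun a => ⟨closure {a}, isIrreducible_singleton.closure, isClosed_closure⟩
  have hlt : ∀ a b : X, a ⤳ b → a ≠ b → C b < C a := fun a b hab hne' => by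
    have hle : C b ≤ C a := closure_minimal (Set.singleton_subset_iff.2 (specializes_iff_mem_closure.1 hab)) isClosed_closure
    refine lt_of_le_of_ne hle fun he => hne' (hab.antisymm ?_).eq
    have : closure ({b} : Set X) = closure {a} := congrArg (fun c : IrreducibleCloseds X => (c : Set X)) he
    exact specializes_iff_mem_closure.2 (this ▸ subset_closure rfl)
  let l : LTSeries (IrreducibleCloseds X) := ((RelSeries.singleton _ (C z)).snoc (C x)
      (hlt x z (specializes_iff_mem_closure.2 hz) (Ne.symm hzx))).snoc (C y) (by simpa using hlt y x hy hne)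
  have h2 := Order.LTSeries.length_le_krullDim l
  have h3 : (l.length : WithBot ℕ∞) ≤ 1 := h2.trans hdim
  have : l.length = 2 := rfl
  rw [this] at h3
  exact absurd h3 (by decide)

theorem subsingleton_specStalk (x : X) (hx : ∀ y : X, y ⤳ x → y = x) :
    Subsingleton (Spec (X.presheaf.stalk x)) := ⟨fun a b => by
  have h : ∀ c : Spec (X.presheaf.stalk x), X.fromSpecStalk x c = x := fun c => hx _ (by
    have : X.fromSpecStalk x c ∈ Set.range (X.fromSpecStalk x) := ⟨c, rfl⟩
    rwa [Scheme.range_fromSpecStalk] at this)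
  exact (X.fromSpecStalk x).isEmbedding.injective ((h a).trans (h b).symm)⟩

theorem isField_stalk [IsReduced X] (x : X) (hx : ∀ y : X, y ⤳ x → y = x) : IsField (X.presheaf.stalk x) := by
  have : Subsingleton (PrimeSpectrum (X.presheaf.stalk x)) := subsingleton_specStalk x hx
  exact (PrimeSpectrum.subsingleton_iff_isField_of_isReduced).1 this

/-- the component of `G_m` at a maximal point -/
noncomputable def comp (X : Scheme.{u}) (x : MaxPts X) : EtCoh.Ab X :=
  (EtCoh.push (X.fromSpecStalk x.1)).obj (EtCoh.Gm (Spec (X.presheaf.stalk x.1)))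

theorem range_fromSpecStalk_max (x : MaxPts X) : Set.range (X.fromSpecStalk x.1).base = {x.1} := by
  refine (Scheme.range_fromSpecStalk (x := x.1)).trans (Set.ext fun y => ?_)
  exact ⟨fun h => x.2 y h, fun h => (Set.mem_singleton_iff.1 h) ▸ specializes_rfl⟩

theorem biprod_total {ι : Type u} [Fintype ι] (P : ι → EtCoh.Ab X) :
    ∑ a, biproduct.π P a ≫ biproduct.ι P a = 𝟙 (⨁ P) := by
  classical
  refine biproduct.hom_ext _ _ fun a => ?_
  rw [Preadditive.sum_comp, Finset.sum_eq_single a]
  · simp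
  · intro b _ hb
    simp [biproduct.ι_π_ne _ hb]
  · simp

variable [IsNoetherian X]

/-- `G_m → ∏ i_{x*} G_m` over the maximal points -/
noncomputable def toMax (X : Scheme.{u}) [IsNoetherian X] : EtCoh.Gm X ⟶ ⨁ (comp X) :=
  biproduct.lift fun x => EtLim.GmPush (X.fromSpecStalk x.1)

theorem isIso_stalk_toMax (x : MaxPts X) {Ω : Type u} [Field Ω] [IsSepClosed Ω]
    (ξ : Spec (CommRingCat.of Ω) ⟶ X) (hξ : ξ.base default = x.1) :
    IsIso ((EtCoh.stalk ξ).map (toMax X)) := by
  classical
  have := Fintype.ofFinite (MaxPts X)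
  have : (EtCoh.stalk ξ).Additive := Functor.additive_of_preserves_binary_products _
  have hiso : IsIso ((EtCoh.stalk ξ).map (EtLim.GmPush (X.fromSpecStalk x.1))) := by
    have := subsingleton_specStalk x.1 x.2
    have := GrpSchLib.flat_fromSpecStalk (X := X) x.1
    exact (ConcreteCategory.isIso_iff_bijective _).2 (stalk_GmPush_bijective _ ξ
      (by rw [hξ, range_fromSpecStalk_max]; rfl))
  have hπ : IsIso ((EtCoh.stalk ξ).map (biproduct.π (comp X) x)) := by
    refine ⟨(EtCoh.stalk ξ).map (biproduct.ι (comp X) x), ?_, ?_⟩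
    · have h := congrArg (EtCoh.stalk ξ).map (biprod_total (comp X))
      rw [Functor.map_sum, CategoryTheory.Functor.map_id, Finset.sum_eq_single x ?_ (by simp)] at h
      · rw [Functor.map_comp] at h
        exact h
      intro y _ hy
      have hz : IsZero ((EtCoh.stalk ξ).obj (comp X y)) := by
        by_contra h0
        have h1 := supp_push_subset (X.fromSpecStalk y.1) _ ((mem_supp_iff ξ).2 h0)
        rw [range_fromSpecStalk_max, ← specializes_iff_mem_closure, hξ] at h1
        exact hy (Subtype.ext (x.2 _ h1))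
      rw [Functor.map_comp, hz.eq_of_tgt ((EtCoh.stalk ξ).map (biproduct.π (comp X) y)) 0, zero_comp]
    · rw [← Functor.map_comp, biproduct.ι_π_self, CategoryTheory.Functor.map_id]
  have hfac : (EtCoh.stalk ξ).map (toMax X) ≫ (EtCoh.stalk ξ).map (biproduct.π (comp X) x) =
      (EtCoh.stalk ξ).map (EtLim.GmPush (X.fromSpecStalk x.1)) :=
    ((EtCoh.stalk ξ).map_comp _ _).symm.trans (congrArg (EtCoh.stalk ξ).map (biproduct.lift_π _ _))
  rw [← IsIso.eq_comp_inv] at hfac
  rw [hfac]
  exact @IsIso.comp_isIso _ _ _ _ _ _ _ hiso inferInstance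

variable (hdim : topologicalKrullDim X ≤ 1)

include hdim

theorem isClosed_of_mem_supp_kernel (y : X) (hy : y ∈ EtPBC.supp (kernel (toMax X))) : IsClosed ({y} : Set X) := by
  by_contra h
  obtain ⟨Ω, _, _, ξ, rfl⟩ := exists_geomPoint y
  have := isIso_stalk_toMax ⟨_, maximal_of_not_isClosed hdim _ h⟩ ξ rfl
  refine (mem_supp_iff ξ).1 hy ?_
  have : Mono ((EtCoh.stalk ξ).map (kernel.ι (toMax X))) :=
    (AddCommGrpCat.mono_iff_injective _).2 ((mono_iff_stalks _).1 inferInstance Ω ξ)
  refine IsZero.of_mono_eq_zero ((EtCoh.stalk ξ).map (kernel.ι (toMax X))) ?_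
  rw [← cancel_mono ((EtCoh.stalk ξ).map (toMax X)), ← Functor.map_comp, kernel.condition, Functor.map_zero, zero_comp]

theorem isClosed_of_mem_supp_cokernel (y : X) (hy : y ∈ EtPBC.supp (cokernel (toMax X))) : IsClosed ({y} : Set X) := by
  by_contra h
  obtain ⟨Ω, _, _, ξ, rfl⟩ := exists_geomPoint y
  have := isIso_stalk_toMax ⟨_, maximal_of_not_isClosed hdim _ h⟩ ξ rfl
  refine (mem_supp_iff ξ).1 hy ?_
  have : Epi ((EtCoh.stalk ξ).map (cokernel.π (toMax X))) :=
    (AddCommGrpCat.epi_iff_surjective _).2 ((epi_iff_stalks _).1 inferInstance Ω ξ)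
  refine IsZero.of_epi_eq_zero ((EtCoh.stalk ξ).map (cokernel.π (toMax X))) ?_
  rw [← cancel_epi ((EtCoh.stalk ξ).map (toMax X)), ← Functor.map_comp, cokernel.condition, Functor.map_zero, comp_zero]

omit hdim [AlgebraicGeometry.IsNoetherian X] in
/-- a class killed in every component, between killed kernel and cokernel, is killed -/
theorem exists_kill (M : Submonoid ℕ) {ι : Type u} [Finite ι] {F : EtCoh.Ab X} {P : ι → EtCoh.Ab X}
    (φ : ∀ a, F ⟶ P a) (r : ℕ) (hK : KilledBy M (EtCoh.H X (kernel (biproduct.lift φ)) (r + 1)))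
    (hC : KilledBy M (EtCoh.H X (cokernel (biproduct.lift φ)) r)) (ξ : EtCoh.H X F (r + 1))
    (hξ : ∀ a, ∃ N ∈ M, N • ((EtCoh.HF X (r + 1)).map (φ a) ξ) = 0) : ∃ N ∈ M, N • ξ = 0 := by
  classical
  have := Fintype.ofFinite ι
  let x : Ext (EtCoh.const X ℤ) F (r + 1) := ξ
  let u := biproduct.lift φ
  choose N hN hNa using hξ
  let N₀ := ∏ a, N a
  have hN₀ : N₀ ∈ M := prod_mem fun a _ => hN a
  have h0 : (N₀ • x).comp (Ext.mk₀ u) (add_zero _) = 0 := by
    have hu : u = ∑ a, φ a ≫ biproduct.ι P a := by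
      refine biproduct.hom_ext _ _ fun a => ?_
      rw [Preadditive.sum_comp, Finset.sum_eq_single a]
      · simp [u]
      · intro b _ hb
        simp [biproduct.ι_π_ne _ hb]
      · simp
    rw [hu, Ext.mk₀_sum, Ext.comp_sum]
    refine Finset.sum_eq_zero fun a _ => ?_
    obtain ⟨d, hd⟩ := Finset.dvd_prod_of_mem N (Finset.mem_univ a)
    rw [← Ext.mk₀_comp_mk₀, ← Ext.comp_assoc_of_second_deg_zero]
    have h1 : (N a • x).comp (Ext.mk₀ (φ a)) (add_zero _) = 0 :=
      (map_nsmul (((Ext.mk₀ (φ a)).postcomp (EtCoh.const X ℤ)) (add_zero (r + 1))) (N a) x).trans (hNa a)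
    have h2 : (N₀ • x).comp (Ext.mk₀ (φ a)) (add_zero _) = 0 := by
      change ((∏ b, N b) • x).comp _ _ = 0
      rw [hd, mul_comm, mul_smul]
      exact (map_nsmul (((Ext.mk₀ (φ a)).postcomp (EtCoh.const X ℤ)) (add_zero (r + 1))) d (N a • x)).trans
        ((congrArg (d • ·) h1).trans (smul_zero _))
    rw [h2, Ext.zero_comp]
  let τ : F ⟶ kernel (cokernel.π u) := Abelian.factorThruImage u
  have hτ : τ ≫ kernel.ι (cokernel.π u) = u := kernel.lift_ι _ _ _
  let S₂ := ShortComplex.mk (kernel.ι (cokernel.π u)) (cokernel.π u) (kernel.condition _)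
  have hS₂ : S₂.ShortExact := { exact := ShortComplex.exact_of_f_is_kernel _ (kernelIsKernel _) }
  obtain ⟨b, hb⟩ := Ext.covariant_sequence_exact₁ _ hS₂ ((N₀ • x).comp (Ext.mk₀ τ) (add_zero _))
    (by rw [Ext.comp_assoc_of_second_deg_zero, Ext.mk₀_comp_mk₀]
        exact (congrArg (fun g => (N₀ • x).comp (Ext.mk₀ g) (add_zero _)) hτ).trans h0) rfl
  obtain ⟨N₁, hN₁, hb₁⟩ := hC b
  have h3 : (N₁ • N₀ • x).comp (Ext.mk₀ τ) (add_zero _) = 0 := by
    refine (map_nsmul (((Ext.mk₀ τ).postcomp (EtCoh.const X ℤ)) (add_zero (r + 1))) N₁ (N₀ • x)).trans ?_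
    change N₁ • (N₀ • x).comp (Ext.mk₀ τ) (add_zero _) = 0
    rw [← hb]
    refine (map_nsmul (hS₂.extClass.postcomp (EtCoh.const X ℤ) rfl) N₁ b).symm.trans ?_
    rw [show N₁ • b = 0 from hb₁, map_zero]
  have h0' : kernel.ι u ≫ τ = 0 := by
    rw [← cancel_mono (kernel.ι (cokernel.π u)), Category.assoc, hτ, kernel.condition, zero_comp]
  have hS₁ : (ShortComplex.mk (kernel.ι u) τ h0').ShortExact := by
    refine { exact := ShortComplex.exact_of_f_is_kernel _ (KernelFork.IsLimit.ofι _ _ (fun g hg => kernel.lift u g ?_)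
      (fun g hg => kernel.lift_ι _ _ _) (fun g hg m hm => ?_)) }
    · rw [← hτ, ← Category.assoc, hg, zero_comp]
    · rw [← cancel_mono (kernel.ι u), hm, kernel.lift_ι]
  obtain ⟨c, hc⟩ := Ext.covariant_sequence_exact₂ _ hS₁ (N₁ • N₀ • x) h3
  obtain ⟨N₂, hN₂, hc₂⟩ := hK c
  refine ⟨N₂ * (N₁ * N₀), mul_mem hN₂ (mul_mem hN₁ hN₀), ?_⟩
  change (N₂ * (N₁ * N₀)) • x = 0
  rw [mul_smul, mul_smul, ← hc]
  refine (map_nsmul (((Ext.mk₀ (kernel.ι u)).postcomp (EtCoh.const X ℤ)) (add_zero (r + 1))) N₂ c).symm.trans ?_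
  rw [show N₂ • c = 0 from hc₂, map_zero]

end Groth.Agent.BrauerXCurve
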