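import Mathlib.AlgebraicGeometry.Morphisms.Flat
import Mathlib.AlgebraicGeometry.Morphisms.Preimmersion
import Mathlib.AlgebraicGeometry.Morphisms.SurjectiveOnStalks

/-!
# Functions along a flat preimmersion, near a point
-/

universe u

open CategoryTheory CategoryTheory.Limits AlgebraicGeometry Opposite TopologicalSpace

namespace Groth.Agent.BrauerXCurve

set_option backward.isDefEq.respectTransparency.types false

variable {P V : Scheme.{u}} (pr : P ⟶ V) [IsPreimmersion pr] [Flat pr]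

/-- stalk maps of a flat preimmersion are bijective -/
theorem stalkMap_bijective (q : P) : Function.Bijective (pr.stalkMap q) := by
  refine ⟨?_, pr.stalkMap_surjective q⟩
  algebraize [(pr.stalkMap q).hom]
  have : Module.Flat (V.presheaf.stalk (pr q)) (P.presheaf.stalk q) := Flat.stalkMap pr q
  have : IsLocalHom (algebraMap (V.presheaf.stalk (pr q)) (P.presheaf.stalk q)) := pr.toLRSHom.prop q
  have := Module.FaithfullyFlat.of_flat_of_isLocalHom (A := V.presheaf.stalk (pr q)) (B := P.presheaf.stalk q)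
  exact FaithfulSMul.algebraMap_injective _ _

/-- two functions with the same pullback agree near the image -/
theorem exists_nhd_eq (a b : Γ(V, ⊤)) (h : pr.appTop a = pr.appTop b) (q : P) :
    ∃ W : V.Opens, pr q ∈ W ∧ W.ι.appTop a = W.ι.appTop b := by
  have hg : V.presheaf.germ ⊤ (pr q) trivial a = V.presheaf.germ ⊤ (pr q) trivial b := by
    apply (stalkMap_bijective pr q).1
    refine (pr.germ_stalkMap_apply ⊤ q trivial a).trans ?_
    exact (congrArg (P.presheaf.germ ⊤ q trivial) h).trans (pr.germ_stalkMap_apply ⊤ q trivial b).symm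
  obtain ⟨W, hW, i₁, i₂, he⟩ := V.presheaf.germ_eq (U := ⊤) (V := ⊤) (pr q) trivial trivial a b hg
  refine ⟨W, hW, ?_⟩
  rw [Scheme.Opens.ι_appTop]
  have key : ∀ (W' : V.Opens), W' ≤ W → ∀ j : W' ⟶ (⊤ : V.Opens),
      V.presheaf.map j.op a = V.presheaf.map j.op b := fun W' hle j => by
    rw [show j = homOfLE hle ≫ i₁ from Subsingleton.elim _ _, op_comp, Functor.map_comp]
    exact (congrArg (V.presheaf.map (homOfLE hle).op) (he.trans (by rw [show i₂ = i₁ from Subsingleton.elim _ _]; rfl)))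
  exact key _ (by simp) _

/-- near an isolated point, invertible functions come from downstairs -/
theorem exists_nhd_lift (t : Γ(P, ⊤)) (ht : IsUnit t) (q : P) (hq : IsOpen ({q} : Set P)) :
    ∃ (W : V.Opens), pr q ∈ W ∧ ∃ s : Γ(W.toScheme, ⊤), IsUnit s ∧
      ∀ (P' : Scheme.{u}) (g : P' ⟶ P) (pr' : P' ⟶ W.toScheme), g ≫ pr = pr' ≫ W.ι →
        pr'.appTop s = g.appTop t := by
  obtain ⟨O, hO, hOq⟩ := pr.isEmbedding.isInducing.isOpen_iff.1 hq
  obtain ⟨σ, hσ⟩ := (stalkMap_bijective pr q).2 (P.presheaf.germ ⊤ q trivial t)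
  obtain ⟨W₀, hW₀, s₀, rfl⟩ := V.presheaf.exists_germ_eq σ
  have hu : IsUnit (V.presheaf.germ W₀ (pr q) hW₀ s₀) := by
    have : IsLocalHom (pr.stalkMap q).hom := pr.toLRSHom.prop q
    refine IsUnit.of_map (pr.stalkMap q).hom _ ?_
    change IsUnit (pr.stalkMap q _)
    rw [hσ]
    exact ht.map _
  let W : V.Opens := V.basicOpen s₀ ⊓ ⟨O, hO⟩
  have hqW : pr q ∈ W := ⟨(V.mem_basicOpen s₀ _ hW₀).2 hu, show q ∈ pr ⁻¹' O by rw [hOq]; rfl⟩
  have hWW : W ≤ W₀ := inf_le_left.trans (V.basicOpen_le s₀)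
  have hpre : ∀ x : P, x ∈ pr ⁻¹ᵁ W → x = q := fun x hx => by
    have : x ∈ pr ⁻¹' O := hx.2
    rw [hOq] at this
    exact this
  let s₁ : Γ(V, W) := V.presheaf.map (homOfLE hWW).op s₀
  have hs₁ : IsUnit s₁ := by
    have := (RingedSpace.isUnit_res_basicOpen V.toRingedSpace s₀).map
      (V.presheaf.map (homOfLE (inf_le_left : W ≤ V.basicOpen s₀)).op).hom
    convert this using 1
    change _ = V.presheaf.map _ (V.presheaf.map _ s₀)
    rw [← ConcreteCategory.comp_apply, ← Functor.map_comp]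
    rfl
  have heq : pr.app W s₁ = P.presheaf.map (homOfLE (le_top : pr ⁻¹ᵁ W ≤ ⊤)).op t := by
    refine TopCat.Presheaf.section_ext P.sheaf (pr ⁻¹ᵁ W) _ _ fun x hx => ?_
    obtain rfl := hpre x hx
    refine (pr.germ_stalkMap_apply W x hx s₁).symm.trans ?_
    refine (congrArg (pr.stalkMap x) (V.presheaf.germ_res_apply _ _ _ _)).trans (hσ.trans ?_)
    exact (P.presheaf.germ_res_apply _ _ _ _).symm
  refine ⟨W, hqW, W.ι.appLE W ⊤ (fun x _ => x.2) s₁, hs₁.map _, fun P' g pr' hw => ?_⟩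
  have hg : ⊤ ≤ g ⁻¹ᵁ (pr ⁻¹ᵁ W) := fun x _ => by
    change pr (g x) ∈ W
    rw [← Scheme.Hom.comp_apply, hw, Scheme.Hom.comp_apply]
    exact (pr' x).2
  have e1 : pr'.appTop (W.ι.appLE W ⊤ (fun x _ => x.2) s₁) = (g ≫ pr).appLE W ⊤ hg s₁ := by
    rw [← ConcreteCategory.comp_apply]
    refine congrArg (fun m : Γ(V, W) ⟶ Γ(P', ⊤) => m s₁) ?_
    change _ ≫ pr'.app ⊤ = _
    rw [Scheme.Hom.app_eq_appLE, Scheme.Hom.appLE_comp_appLE]
    simp only [hw]
    rfl
  have e2 : (g ≫ pr).appLE W ⊤ hg s₁ = g.appTop t := by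
    rw [← Scheme.Hom.appLE_comp_appLE g pr W (pr ⁻¹ᵁ W) ⊤ le_rfl hg, ConcreteCategory.comp_apply,
      ← Scheme.Hom.app_eq_appLE, heq, ← ConcreteCategory.comp_apply]
    refine congrArg (fun m : Γ(P, ⊤) ⟶ Γ(P', ⊤) => m t) ?_
    rw [Scheme.Hom.map_appLE]
    exact (Scheme.Hom.app_eq_appLE g).symm
  exact e1.trans e2

end Groth.Agent.BrauerXCurve
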