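import Groth.Agent.BrauerXCurve.GmField
import Groth.Agent.GalEt.RatVanish
import Groth.Agent.EtDerLib.RpushLoc
import Groth.Agent.EtSupp70.Leray

/-!
# The multiplicative group on étale schemes over a field
-/

universe u

open CategoryTheory CategoryTheory.Limits AlgebraicGeometry Opposite CategoryTheory.Abelian

namespace Groth.Agent.BrauerXCurve

open Groth.Agent.GalEt

set_option backward.isDefEq.respectTransparency.types false

variable {K : Type u} [Field K]

set_option maxHeartbeats 1000000 in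
theorem H_pull_Gm_eq_zero {n : ℕ}
    (h : ∀ (L : Type u) [Field L] [Algebra K L] [FiniteDimensional K L] [Algebra.IsSeparable K L]
      (y : EtCoh.H (Spec (CommRingCat.of L)) (EtCoh.Gm (Spec (CommRingCat.of L))) (n + 1)), y = 0)
    (Z : (Spec (CommRingCat.of K)).Etale) [CompactSpace Z.left]
    (x : EtCoh.H Z.left ((EtCoh.pull Z.hom).obj (EtCoh.Gm (Spec (CommRingCat.of K)))) (n + 1)) : x = 0 := by
  classical
  haveI : AlgebraicGeometry.Etale Z.hom := Z.prop
  obtain ⟨ι, L, hF, hA, hL, e, he⟩ := S9714.forward (k := K) (Z.hom : Z.left ⟶ Spec (CommRingCat.of K))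
  let S : ι → Scheme.{u} := fun i => Spec (CommRingCat.of (L i))
  let g : ∀ i, S i ⟶ Z.left := fun i => Sigma.ι S i ≫ e.inv
  let O : ι → Z.left.Opens := fun i => (g i).opensRange
  have key : ∀ i, pullExt (O i).ι x = 0 := fun i => by
    haveI := (hL i).1
    haveI := (hL i).2
    haveI := EtFound.pull_preservesFiniteLimits (g i)
    have hg : g i ≫ Z.hom = specOver K (L i) := by
      rw [← he]
      simp only [g, S, Category.assoc, Iso.inv_hom_id_assoc]
      exact Sigma.ι_desc _ _
    let j := ((EtCore.pullComp (g i) Z.hom).symm ≪≫ EtCore.pullCongr hg).app (EtCoh.Gm (Spec (CommRingCat.of K))) ≪≫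
      pullGm (k := K) (L i)
    have hsub : Subsingleton (EtCoh.H (S i)
        ((EtCoh.pull (g i)).obj ((EtCoh.pull Z.hom).obj (EtCoh.Gm (Spec (CommRingCat.of K))))) (n + 1)) :=
      haveI : Subsingleton (EtCoh.H (S i) (EtCoh.Gm (Spec (CommRingCat.of (L i)))) (n + 1)) :=
        subsingleton_of_forall_eq 0 (h (L i))
      EtSupp70.subsingleton_H_of_iso j.symm (n + 1)
    have h0 : pullExt (g i) x = 0 := (Hpull_eq_zero_iff (g i) _ (n + 1) x).1 (@Subsingleton.elim _ hsub _ _)
    have h1 : IsOpenImmersion.lift (g i) (O i).ι (by rw [Scheme.Opens.range_ι]; exact subset_rfl) ≫ g i = (O i).ι :=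
      IsOpenImmersion.lift_fac _ _ _
    exact (pullExt_eq_zero_of_comp h1 x).1 (by rw [h0, pullExt_zero])
  have hdisj : Pairwise fun i j => O i ⊓ O j = ⊥ := fun i j hij => by
    refine TopologicalSpace.Opens.ext (Set.eq_empty_iff_forall_notMem.2 ?_)
    rintro p ⟨⟨a, ha⟩, b, hb⟩
    have h2 : (Sigma.ι S i) a = (Sigma.ι S j) b := by
      have h3 := congrArg (fun q => e.hom q) (ha.trans hb.symm)
      dsimp only at h3
      have hi : ∀ (l : ι) (c : S l), e.hom (g l c) = Sigma.ι S l c := fun l c => by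
        rw [← Scheme.Hom.comp_apply]
        exact congrArg (fun m : S l ⟶ ∐ S => m c) (by simp only [g, Category.assoc, Iso.inv_hom_id, Category.comp_id])
      exact (hi i a).symm.trans (h3.trans (hi j b))
    exact Set.disjoint_left.1 (TopologicalSpace.Opens.coe_disjoint.2 (disjoint_opensRange_sigmaι S i j hij))
      ⟨a, rfl⟩ ⟨b, h2.symm⟩
  obtain ⟨T, hT⟩ := isCompact_univ.elim_finite_subcover (fun i => (O i : Set Z.left))
    (fun i => (O i).isOpen) (fun p _ => by
      obtain ⟨i, a, ha⟩ := (sigmaOpenCover S).exists_eq (e.hom.base p)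
      refine Set.mem_iUnion.2 ⟨i, a, ?_⟩
      change (Sigma.ι S i ≫ e.inv).base a = p
      refine (Scheme.Hom.comp_apply _ _ _).trans ((congrArg e.inv.base ha).trans ?_)
      rw [← Scheme.Hom.comp_apply, e.hom_inv_id]
      rfl)
  have hsup : ∀ T : Finset ι, pullExt (T.sup O).ι x = 0 := fun T => by
    induction T using Finset.induction_on with
    | empty =>
      rw [Finset.sup_empty]
      haveI : IsEmpty (⊥ : Z.left.Opens).toScheme := ⟨fun p => p.2⟩
      haveI := EtFound.pull_preservesFiniteLimits (⊥ : Z.left.Opens).ι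
      exact (Hpull_eq_zero_iff _ _ (n + 1) x).1 (H_eq_zero_of_isEmpty _ _ _)
    | insert i T hi ih =>
      rw [Finset.sup_insert]
      refine killed_sup (disjoint_iff.1 (Finset.disjoint_sup_right.2 fun j hj => disjoint_iff.2 (hdisj ?_))) x (key i) ih
      exact fun hij => hi (hij ▸ hj)
  refine eq_zero_of_killed_top x ?_
  have hTop : T.sup O = ⊤ := top_unique fun p _ => by
    obtain ⟨i, hi, hp⟩ := Set.mem_iUnion₂.1 (hT (Set.mem_univ p))
    exact Finset.le_sup (f := O) hi hp
  rw [← hTop]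
  exact hsup T

/-- higher direct images of `G_m` from the spectrum of a field along an affine morphism -/
theorem isZero_Rpush_Gm {X : Scheme.{u}} (f : Spec (CommRingCat.of K) ⟶ X) [EtCoh.BCCont f] [QuasiCompact f] {n : ℕ}
    (h : ∀ (L : Type u) [Field L] [Algebra K L] [FiniteDimensional K L] [Algebra.IsSeparable K L]
      (y : EtCoh.H (Spec (CommRingCat.of L)) (EtCoh.Gm (Spec (CommRingCat.of L))) (n + 1)), y = 0) :
    IsZero ((EtCoh.Rpush f (n + 1)).obj (EtCoh.Gm (Spec (CommRingCat.of K)))) := by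
  refine (EtDerLib.isZero_Rpush_iff f n _).2 fun V ξ v => ?_
  obtain ⟨O, hO, hvO, -⟩ := exists_isAffineOpen_mem_and_subset (Set.mem_univ v) (U := (⊤ : V.left.Opens))
  let W := EtFound.restrictEtale V O
  haveI : IsAffine W.left := hO
  haveI : CompactSpace ((EtCoh.bc f).obj W).left :=
    @QuasiCompact.compactSpace_of_compactSpace _ _ (pullback.fst W.hom f : ((EtCoh.bc f).obj W).left ⟶ W.left)
      (MorphismProperty.pullback_fst W.hom f ‹QuasiCompact f›)
      (isCompact_univ_iff.1 (isAffineOpen_top W.left).isCompact)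
  refine ⟨W, EtFound.restrictEtaleHom V O, 1, ⟨⟨v, hvO⟩, rfl⟩, EtDerLib.primesIn_one _, ?_⟩
  refine (one_nsmul _).trans ((EtDerLib.toH_bijective _ _ _).1 ?_)
  exact (H_pull_Gm_eq_zero h _ _).trans (map_zero _).symm

/-- the direct image of `G_m` from the spectrum of a `C₁` field has no higher cohomology -/
theorem subsingleton_H_push_Gm {X : Scheme.{u}} (f : Spec (CommRingCat.of K) ⟶ X) [EtCoh.BCCont f] [QuasiCompact f]
    (hK : Curves.IsCi K 1) (n : ℕ) :
    Subsingleton (EtCoh.H X ((EtCoh.push f).obj (EtCoh.Gm (Spec (CommRingCat.of K)))) (n + 1)) := by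
  refine EtSupp70.subsingleton_H_push_of_Rpush f n _ (subsingleton_of_forall_eq 0 (gm_eq_zero_of_isCi hK n))
    fun a p _ => EtSupp70.subsingleton_H_of_isZero ?_ a
  exact isZero_Rpush_Gm f fun L _ _ _ _ => gm_eq_zero_of_isCi (TsenLib.isCi_of_isAlgebraic (L := L) hK) p

end Groth.Agent.BrauerXCurve
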