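import Groth.Agent.BrauerXCurve.C1
import Groth.Agent.GalEt.CharP

/-!
# The multiplicative group over a `C₁` field has no higher cohomology
-/

universe u

open CategoryTheory CategoryTheory.Abelian AlgebraicGeometry

namespace Groth.Agent.BrauerXCurve

open Groth.Agent.GalEt

theorem killed_vanish_of_normSurj {K : Type u} [Field K] (p : ℕ) [Fact p.Prime] (hK : NormSurj K p)
    (F : EtCoh.Ab (Spec (CommRingCat.of K))) (hF : IsKilled p F) (q : ℕ) (hq : 2 ≤ q)
    (x : EtCoh.H (Spec (CommRingCat.of K)) F q) : x = 0 := by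
  have hz : ZpVanish K p 2 := by
    by_cases hp : (p : K) = 0
    · haveI : CharP K p := CharP.ringChar_of_prime_eq_zero Fact.out hp ▸ ringChar.charP K
      exact zpVanish_charP K p 2 le_rfl
    · exact zpVanish_of_normSurj hp hK
  exact killed_vanish_mono K (H_eq_zero_of_killed K p 2 hz) q (by omega) F hF x

theorem gm_prime_torsion_eq_zero {K : Type u} [Field K] (p : ℕ) [Fact p.Prime] (hK : NormSurj K p) (q : ℕ)
    (y : EtCoh.H (Spec (CommRingCat.of K)) (EtCoh.Gm (Spec (CommRingCat.of K))) (q + 3)) (hy : p • y = 0) :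
    y = 0 :=
  nsmul_injective_of_killed (q := q + 2) (fun F hF x => killed_vanish_of_normSurj p hK F hF _ (by omega) x)
    (fun F hF x => killed_vanish_of_normSurj p hK F hF _ (by omega) x) y hy

theorem gm_eq_zero_of_isCi {K : Type u} [Field K] (hK : Curves.IsCi K 1) (q : ℕ)
    (y : EtCoh.H (Spec (CommRingCat.of K)) (EtCoh.Gm (Spec (CommRingCat.of K))) (q + 1)) : y = 0 := by
  rcases q with _ | _ | q
  · exact H_one_eq_zero _ _ (galH1Trivial_Gm _) y
  · exact brauer_eq_zero_of_isCi hK y
  · obtain ⟨N, hN, hy⟩ := isOfFinAddOrder_iff_nsmul_eq_zero.1 (GalEt.isOfFinAddOrder_H (k := K) _ (q + 2) y)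
    induction N using Nat.strong_induction_on generalizing y with
    | _ N ih =>
    rcases eq_or_ne N 1 with rfl | h1
    · rwa [one_smul] at hy
    have hp := Nat.minFac_prime h1
    have : Fact N.minFac.Prime := ⟨hp⟩
    obtain ⟨m, hm⟩ := Nat.minFac_dvd N
    have hm0 : 0 < m := Nat.pos_of_ne_zero fun h => by rw [h, mul_zero] at hm; omega
    refine ih m ?_ y hm0 (gm_prime_torsion_eq_zero N.minFac (normSurj_of_isCi hK _) q (m • y) ?_)
    · calc m = 1 * m := (one_mul m).symm
        _ < N.minFac * m := Nat.mul_lt_mul_of_pos_right hp.one_lt hm0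
        _ = N := hm.symm
    · rw [← mul_smul, ← hm]; exact hy

end Groth.Agent.BrauerXCurve
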