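import Groth.Agent.BrauerXCurve.Germs
import Groth.Agent.EtPBC63.Gen
import Groth.Agent.EtFound.Basic
import Groth.Agent.EtShriekLib.Stalk
import Groth.Prelude.Def_EtLim

/-!
# `G_m → i_* G_m` on stalks over the image of a one-point flat preimmersion
-/

universe u

open CategoryTheory CategoryTheory.Limits AlgebraicGeometry Opposite TopologicalSpace

namespace Groth.Agent.BrauerXCurve

open Groth.Agent.EtFound

set_option backward.isDefEq.respectTransparency.types false

variable {X Y : Scheme.{u}}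

/-- the invertible function underlying a section of `G_m` -/
noncomputable def gmFun {V : X.Etale} (s : EtCoh.sect (EtCoh.Gm X) V) : Γ(V.left, ⊤)ˣ :=
  Additive.toMul s.down

/-- a section of `G_m` from an invertible function -/
noncomputable def gmSect {V : X.Etale} (s : Γ(V.left, ⊤)ˣ) : EtCoh.sect (EtCoh.Gm X) V :=
  ULift.up (Additive.ofMul s)

theorem gmFun_ext {V : X.Etale} {s t : EtCoh.sect (EtCoh.Gm X) V}
    (h : ((gmFun s : Γ(V.left, ⊤)ˣ) : Γ(V.left, ⊤)) = (gmFun t : Γ(V.left, ⊤)ˣ)) : s = t :=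
  ULift.ext _ _ (Additive.toMul.injective (Units.ext h))

theorem gmFun_res {U V : X.Etale} (r : V ⟶ U) (s : EtCoh.sect (EtCoh.Gm X) U) :
    ((gmFun ((EtCoh.Gm X).obj.map r.op s) : Γ(V.left, ⊤)ˣ) : Γ(V.left, ⊤)) =
      r.left.appTop (gmFun s : Γ(U.left, ⊤)) := rfl

theorem gmFun_gmPush (i : Y ⟶ X) (V : X.Etale) (s : EtCoh.sect (EtCoh.Gm X) V) :
    ((gmFun ((EtLim.GmPush i).hom.app (op V) s : EtCoh.sect (EtCoh.Gm Y) ((EtCoh.bc i).obj V)) :
        Γ(((EtCoh.bc i).obj V).left, ⊤)ˣ) : Γ(((EtCoh.bc i).obj V).left, ⊤)) =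
      (pullback.fst V.hom i : ((EtCoh.bc i).obj V).left ⟶ V.left).appTop (gmFun s : Γ(V.left, ⊤)) := rfl

theorem toPresheafFiber_w_apply' {Ω : Type u} [Field Ω] [IsSepClosed Ω] {ξ : Spec (CommRingCat.of Ω) ⟶ X}
    (F : EtCoh.Ab X) {U V : X.Etale} (r : V ⟶ U) (v : (Scheme.pointSmallEtale ξ).fiber.obj V)
    (s : F.obj.obj (op U)) :
    (Scheme.pointSmallEtale ξ).toPresheafFiber V v F.obj (F.obj.map r.op s) =
      (Scheme.pointSmallEtale ξ).toPresheafFiber U ((Scheme.pointSmallEtale ξ).fiber.map r v) F.obj s :=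
  (Scheme.pointSmallEtale ξ).toPresheafFiber_w_apply r v F.obj s

variable (i : Y ⟶ X) [IsPreimmersion i] [Flat i] [Subsingleton Y]
  {Ω : Type u} [Field Ω] [IsSepClosed Ω] (ξ : Spec (CommRingCat.of Ω) ⟶ X)

omit [IsPreimmersion i] [Flat i] [Subsingleton Y] in
theorem exists_point_over (hξ : ξ.base default ∈ Set.range i.base) (V : X.Etale)
    (z : (Scheme.pointSmallEtale ξ).fiber.obj V) :
    ∃ q : (pullback V.hom i : Scheme.{u}), (pullback.fst V.hom i) q =
      (z.left : Spec (CommRingCat.of Ω) ⟶ V.left).base (default : Spec (CommRingCat.of Ω)) := by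
  obtain ⟨y, hy⟩ := hξ
  obtain ⟨q, hq, -⟩ := Scheme.Pullback.exists_preimage_pullback (f := V.hom) (g := i)
    ((z.left : Spec (CommRingCat.of Ω) ⟶ V.left).base (default : Spec (CommRingCat.of Ω))) y
    ((Scheme.Hom.comp_apply _ _ _).symm.trans
      ((congrArg (fun f : Spec (CommRingCat.of Ω) ⟶ X => f default) (CategoryTheory.Over.w z)).trans hy.symm))
  exact ⟨q, hq⟩

omit [IsPreimmersion i] [Flat i] in
theorem isOpen_singleton_bc (V : X.Etale) (q : (pullback V.hom i : Scheme.{u})) : IsOpen ({q} : Set _) := by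
  have : AlgebraicGeometry.Etale V.hom := V.prop
  have : AlgebraicGeometry.Etale (pullback.snd V.hom i) := inferInstance
  have := EtShriekLib.locallyQuasiFinite_of_etale (pullback.snd V.hom i)
  have hd := (pullback.snd V.hom i).isDiscrete_preimage_singleton ((pullback.snd V.hom i) q)
  have huniv : (pullback.snd V.hom i) ⁻¹' {(pullback.snd V.hom i) q} = Set.univ :=
    Set.eq_univ_of_forall fun x => Subsingleton.elim _ _
  rw [huniv, isDiscrete_univ_iff] at hd
  exact isOpen_discrete _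

theorem stalk_GmPush_bijective (hξ : ξ.base default ∈ Set.range i.base) :
    Function.Bijective ((EtCoh.stalk ξ).map (EtLim.GmPush i)) := by
  let Φ := Scheme.pointSmallEtale ξ
  refine ⟨(injective_iff_map_eq_zero ((EtCoh.stalk ξ).map (EtLim.GmPush i)).hom).2 fun c hc => ?_, fun c => ?_⟩
  · obtain ⟨V, z, s, rfl⟩ := Φ.toPresheafFiber_jointly_surjective c
    change (EtCoh.stalk ξ).map (EtLim.GmPush i) _ = 0 at hc
    replace hc := (EtPBC63.stalk_map_germ (EtLim.GmPush i) V z s).symm.trans hc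
    replace hc := hc.trans (map_zero (Φ.toPresheafFiber V z ((EtCoh.push i).obj (EtCoh.Gm Y)).obj).hom).symm
    obtain ⟨W, r, w, hw, he⟩ := (Φ.toPresheafFiber_eq_iff' V z _ _).1 hc
    rw [map_zero] at he
    have he' : (EtLim.GmPush i).hom.app (op W) ((EtCoh.Gm X).obj.map r.op s) = 0 := by
      rw [NatTrans.naturality_apply]; exact he
    obtain ⟨q, hq⟩ := exists_point_over i ξ hξ W w
    obtain ⟨O, hO, hO'⟩ := exists_nhd_eq (pullback.fst W.hom i)
      (gmFun ((EtCoh.Gm X).obj.map r.op s) : Γ(W.left, ⊤)) 1 (by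
        rw [map_one]
        refine (gmFun_gmPush i W _).symm.trans ?_
        rw [he']
        rfl) q
    obtain ⟨w', hw', -⟩ := exists_lift_point (restrictEtaleHom W O) w ⟨_, hO⟩ hq
    subst hw
    refine (toPresheafFiber_w_apply' (EtCoh.Gm X) r w s).symm.trans ?_
    subst hw'
    refine (toPresheafFiber_w_apply' (EtCoh.Gm X) (restrictEtaleHom W O) w' _).symm.trans ?_
    refine (congrArg (Φ.toPresheafFiber _ w' (EtCoh.Gm X).obj) (show _ = 0 from ?_)).trans (map_zero _)
    refine gmFun_ext ((gmFun_res (restrictEtaleHom W O) _).trans ?_)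
    change O.ι.appTop _ = 1
    rw [hO', map_one]
  · obtain ⟨V, z, t, rfl⟩ := Φ.toPresheafFiber_jointly_surjective c
    obtain ⟨q, hq⟩ := exists_point_over i ξ hξ V z
    let t' : EtCoh.sect (EtCoh.Gm Y) ((EtCoh.bc i).obj V) := t
    obtain ⟨O, hO, s, hs, hprop⟩ := exists_nhd_lift (pullback.fst V.hom i)
      (gmFun t' : Γ(((EtCoh.bc i).obj V).left, ⊤)) (gmFun t').isUnit q (isOpen_singleton_bc i V q)
    obtain ⟨w, hw, -⟩ := exists_lift_point (restrictEtaleHom V O) z ⟨_, hO⟩ hq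
    refine ⟨Φ.toPresheafFiber _ w (EtCoh.Gm X).obj (gmSect hs.unit), ?_⟩
    refine (EtPBC63.stalk_map_germ (EtLim.GmPush i) _ w (gmSect hs.unit)).trans ?_
    refine Eq.trans ?_ (congrArg (fun z' => Φ.toPresheafFiber V z' ((EtCoh.push i).obj (EtCoh.Gm Y)).obj t) hw)
    refine Eq.trans ?_ (toPresheafFiber_w_apply' ((EtCoh.push i).obj (EtCoh.Gm Y)) (restrictEtaleHom V O) w t)
    refine congrArg (fun a => Φ.toPresheafFiber _ w ((EtCoh.push i).obj (EtCoh.Gm Y)).obj a) ?_
    refine gmFun_ext (X := Y) (V := (EtCoh.bc i).obj (restrictEtale V O)) ?_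
    refine (gmFun_gmPush i _ _).trans ?_
    exact hprop _ ((EtCoh.bc i).map (restrictEtaleHom V O)).left _
      (EtCoh.isPullback_bc_map i (restrictEtaleHom V O)).w

end Groth.Agent.BrauerXCurve
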