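import Groth.Agent.BrauerXHens.GmGood
import Groth.Agent.BrauerXPoint.GmPush
import Groth.Agent.EtFound.AbRecollement
import Groth.Agent.Hensel.Local
import Groth.Agent.GalEt.Trace

/-!
# Direct images of `G_m` from a henselian one-point scheme
-/

universe u

open CategoryTheory CategoryTheory.Limits AlgebraicGeometry Opposite

namespace Groth.Agent.BrauerXCurve

open Groth.Agent.EtFound Groth.Agent.GalEt

set_option backward.isDefEq.respectTransparency.types false

theorem henselianLocalRing_of_subsingleton (R : Type u) [CommRing R] [IsLocalRing R]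
    [Subsingleton (PrimeSpectrum R)] : HenselianLocalRing R := by
  refine Hensel.henselianLocalRing_of_radical_eq R ⊥ (le_antisymm (IsLocalRing.le_maximalIdeal ?_) ?_)
  · rw [Ideal.radical_eq_top.ne]
    exact bot_ne_top
  · intro x hx
    show x ∈ nilradical R
    rw [nilradical_eq_sInf, Ideal.mem_sInf]
    intro J hJ
    have h := Subsingleton.elim (⟨J, hJ⟩ : PrimeSpectrum R) (IsLocalRing.closedPoint R)
    rw [show J = IsLocalRing.maximalIdeal R from congrArg PrimeSpectrum.asIdeal h]
    exact hx

variable {R : Type u} [CommRing R] [HenselianLocalRing R] [Subsingleton (PrimeSpectrum R)] {X : Scheme.{u}}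
  (i : Spec (CommRingCat.of R) ⟶ X)

/-- `i_*` keeps epimorphisms with kernel `G_m` -/
theorem epi_push_map_Gm [QuasiCompact i] (E : ShortComplex (EtCoh.Ab (Spec (CommRingCat.of R)))) (hE : E.ShortExact)
    (e : E.X₁ = EtCoh.Gm (Spec (CommRingCat.of R))) : Epi ((EtCoh.push i).map E.g) := by
  let j := cpt R
  haveI : IsClosedImmersion j := IsClosedImmersion.spec_of_surjective _ Ideal.Quotient.mk_surjective
  haveI := EtFound.pull_preservesFiniteLimits j
  haveI hiso : ∀ F, IsIso ((EtCoh.pullPushAdj j).unit.app F) := fun F => (isIso_iff_stalks _).2 fun Ω _ _ ξ =>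
    isIso_stalk_unit_closed j F ξ ⟨default, Subsingleton.elim (α := PrimeSpectrum R) _ _⟩
  haveI : Epi ((EtCoh.push (j ≫ i)).map ((EtCoh.pull j).map E.g)) := by
    refine BrauerXPoint.epi_push_map (k := IsLocalRing.ResidueField R) (j ≫ i) (E.map (EtCoh.pull j))
      (hE.map_of_exact _) fun L _ _ _ _ => ?_
    haveI := GalEt.etale_π (extObj (IsLocalRing.ResidueField R) L)
    haveI := GalEt.jCont_hom (extObj (IsLocalRing.ResidueField R) L)
    show GalEt.GalH1Trivial L ((EtShriek.restrAlong (π (extObj (IsLocalRing.ResidueField R) L))).obj ((EtCoh.pull j).obj E.X₁))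
    rw [e]
    exact (BrauerXHens.h1_restr (BrauerXHens.h1Good_pull BrauerXHens.isOneUnits_id) L).galH1Trivial
  haveI h1 : Epi ((EtCoh.push i).map ((EtCoh.push j).map ((EtCoh.pull j).map E.g))) :=
    (show Epi ((EtCoh.push j ⋙ EtCoh.push i).map ((EtCoh.pull j).map E.g)) from by
      rw [← NatIso.naturality_2 (EtCoh.pushComp i j) ((EtCoh.pull j).map E.g)]
      infer_instance)
  have h2 : (EtCoh.push i).map E.g = (EtCoh.push i).map ((EtCoh.pullPushAdj j).unit.app E.X₂) ≫
      (EtCoh.push i).map ((EtCoh.push j).map ((EtCoh.pull j).map E.g)) ≫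
        (EtCoh.push i).map (inv ((EtCoh.pullPushAdj j).unit.app E.X₃)) := by
    rw [← Functor.map_comp, ← Functor.map_comp]
    congr 1
    rw [← Category.assoc, IsIso.eq_comp_inv]
    exact (EtCoh.pullPushAdj j).unit.naturality E.g
  rw [h2]
  infer_instance

theorem hofPush_Gm_injective_two [QuasiCompact i] [PreservesFiniteLimits (EtCoh.pull i)] :
    Function.Injective (EtLim.HofPush i (EtCoh.Gm (Spec (CommRingCat.of R))) 2) :=
  let P := Classical.arbitrary (InjectivePresentation (EtCoh.Gm (Spec (CommRingCat.of R))))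
  BrauerXPoint.hofPush_injective_two i _ P (epi_push_map_Gm i P.shortComplex P.shortExact_shortComplex rfl)

end Groth.Agent.BrauerXCurve
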